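import Groth.Agent.MultExactLib.Main
import Groth.Agent.SemiAbLib.Exponent
import Groth.Agent.SemiAbLib.PowField
import Groth.Agent.AntiAffLib.AffineQuot
import Groth.Agent.AntiAffLib.KerSub
import Groth.Agent.HomCorrLib.TorsionPts
import Groth.Agent.SCSectLib.Cover
import Groth.Agent.RedRankLib.CommRel
import Groth.Agent.S5242
import Groth.Agent.RadLib.Basic
import Groth.Agent.DiagRepLib.Main

/-!
# Complements of the largest subgroup of multiplicative type
-/

set_option autoImplicit false
set_option linter.all false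
set_option backward.isDefEq.respectTransparency false
set_option backward.isDefEq.respectTransparency.types false
set_option maxHeartbeats 1000000
set_option synthInstance.maxHeartbeats 400000

universe u

open CategoryTheory CategoryTheory.Limits MonoidalCategory CartesianMonoidalCategory AlgebraicGeometry CoactBr WithConv
open scoped MonObj TensorProduct
open Groth.Agent

noncomputable section

namespace MultExactLib

attribute [-instance] CategoryTheory.Hom.commGroup
attribute [local instance] CoactBr.braidedAlgSpecOf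

variable {k : Type u} [Field k]

/-- An affine semi-abelian variety is a torus. -/
theorem mult_of_semiAb {S : Over (Spec (CommRingCat.of k))} [GrpObj S] [IsAffine S.left]
    [LocallyOfFiniteType S.hom] (hS : SemiAbLib.IsSemiAb S) : SGA3x.IsMultTypeFT S := by
  haveI : QuasiCompact S.hom := inferInstance
  obtain ⟨hs, hc⟩ := hS.props
  haveI := hs; haveI := hc
  obtain ⟨T, _, i, A, _, q, hi, hic, hT, hq, hqs, hqf, hk, hAp, hAs, hAc⟩ := hS
  haveI := hi; haveI := hic; haveI := hq; haveI := hqs; haveI := hqf; haveI := hAp; haveI := hAs; haveI := hAc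
  haveI : IsAffine A.left := AntiAffLib.isAffine_of_surjective_hom q
  haveI : IsAffineHom A.hom := inferInstance
  haveI : IsFinite A.hom := IsFinite.iff_isProper_and_isAffineHom.mpr ⟨inferInstance, inferInstance⟩
  haveI : Finite ↥A.left := by
    have h := A.hom.finite_preimage_singleton (IsLocalRing.closedPoint k)
    have e : A.hom.base ⁻¹' {IsLocalRing.closedPoint k} = Set.univ :=
      Set.eq_univ_of_forall fun z => Subsingleton.elim (α := PrimeSpectrum k) _ _
    rw [e] at h
    exact Set.finite_univ_iff.1 h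
  haveI : AlgebraicGeometry.IsReduced S.left := AlgSpLib.isReduced_of_smooth S.hom
  have hq1 : q = 1 := SCSectLib.eq_one_of_finite q (η[S]) (by
    rw [IsMonHom.one_hom, Hom.one_def, toUnit_unique (toUnit _) (𝟙 _), Category.id_comp])
  haveI : Mono i := Over.mono_of_mono_left i
  have hs' : hk.lift (𝟙 S) (toUnit S) (by rw [Category.id_comp, hq1, Hom.one_def]) ≫ i = 𝟙 S := hk.lift_fst _ _ _
  haveI : IsIso i := ⟨_, by rw [← cancel_mono i, Category.assoc, hs', Category.comp_id, Category.id_comp], hs'⟩
  haveI : IsMonHom (asIso i).hom := (inferInstance : IsMonHom i)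
  exact RadLib.isMultTypeFT_of_grpIso (asIso i) (RedRank.isMultTypeFT_of_isTorus hT)

/-- Torsion in a group of multiplicative type is finite. -/
theorem isFinite_torsion {M : Over (Spec (CommRingCat.of k))} [GrpObj M] (hM : SGA3x.IsMultTypeFT M)
    {N : Over (Spec (CommRingCat.of k))} [GrpObj N] (κ : N ⟶ M) [IsMonHom κ] [IsClosedImmersion κ.left]
    {n : ℕ} (hn : 0 < n) (hκ : κ ^ n = 1) : IsFinite N.hom := by
  haveI := MultEq.isAffineHom_of_isMultTypeFT hM
  haveI := MultEq.lfp_of_isMultTypeFT hM
  haveI : IsAffine M.left := isAffine_of_isAffineHom M.hom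
  haveI : IsAffine N.left := isAffine_of_isAffineHom κ.left
  obtain ⟨C, _, _, v, hv, hv'⟩ := HomCorr.exists_hopf M
  obtain ⟨D, _, _, w, hw, hw'⟩ := HomCorr.exists_hopf N
  haveI := hv; haveI := hv'; haveI := hw; haveI := hw'
  haveI : IsIso v.hom.left := (Over.forget _).map_isIso v.hom
  haveI : IsIso v.inv.left := (Over.forget _).map_isIso v.inv
  haveI : IsIso w.hom.left := (Over.forget _).map_isIso w.hom
  haveI : Algebra.FiniteType k C := by
    haveI : LocallyOfFiniteType (sp k C).hom := by rw [← Over.w v.hom]; infer_instance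
    exact RingHom.finiteType_algebraMap.1 ((HasRingHomProperty.Spec_iff (P := @LocallyOfFiniteType)
      (φ := CommRingCat.ofHom (algebraMap k C))).1 (inferInstance : LocallyOfFiniteType (sp k C).hom))
  have hC := HomCorr.isMultType_of_locally v.hom (Transporter.locally_of_isMultTypeFT hM)
  haveI : Coalgebra.IsCocomm k C := FinMult.isCocomm_of_isMultType hC
  haveI : (SGA3b.torsionIdeal k C n).IsHopfIdeal k := FinMult.isHopfIdeal_torsionIdeal n
  obtain ⟨-, hfin⟩ := S5242.result k C inferInstance hC n hn _ rfl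
  haveI := hfin
  obtain ⟨χ, hχ⟩ := DiagRep.exists_pt (w.hom ≫ κ ≫ v.inv)
  have h1 : pt χ ^ n = 1 := by
    rw [← hχ, ← MonObj.comp_pow, ← MonObj.pow_comp, hκ, MonObj.one_comp, MonObj.comp_one]
  rw [HomCorr.pt_pow, ← DiagRep.pt_one] at h1
  have hle : SGA3b.torsionIdeal k C n ≤ RingHom.ker χ := by
    refine Ideal.map_le_iff_le_comap.2 fun a ha => ?_
    show χ (SGA3b.powConv k C n a) = 0
    refine (DFunLike.congr_fun (pt_injective h1) a).trans ?_
    show algebraMap k D (Bialgebra.counitAlgHom k C a) = 0
    rw [show Bialgebra.counitAlgHom k C a = 0 from ha, map_zero]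
  have hsurj : Function.Surjective χ := by
    haveI : IsClosedImmersion (pt χ).left := by
      rw [← hχ, Over.comp_left, Over.comp_left]
      infer_instance
    exact DiagRep.surjective_of_isClosedImmersion χ inferInstance
  haveI : Module.Finite k D := Module.Finite.of_surjective (Ideal.Quotient.liftₐ _ χ hle).toLinearMap fun d => by
    obtain ⟨c, rfl⟩ := hsurj d
    exact ⟨Ideal.Quotient.mk _ c, rfl⟩
  haveI : IsFinite (sp k D).hom :=
    (IsFinite.SpecMap_iff (CommRingCat.ofHom (algebraMap k D))).2 (RingHom.finite_algebraMap.2 inferInstance)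
  haveI : IsIso w.inv.left := (Over.forget _).map_isIso w.inv
  rw [← Over.w w.inv]
  infer_instance

/-- The complement as a kernel. -/
theorem exists_compl {G M S : Over (Spec (CommRingCat.of k))} [GrpObj G] [IsCommMonObj G] [GrpObj M] [GrpObj S]
    [LocallyOfFiniteType G.hom] [LocallyOfFiniteType S.hom] (j : M ⟶ G) [IsMonHom j]
    [IsClosedImmersion j.left] (f : G ⟶ S) [IsMonHom f] (c : S ⟶ M) [IsMonHom c]
    [Surjective (c ≫ j ≫ f).left]
    (hfin : ∀ (N : Over (Spec (CommRingCat.of k))) [GrpObj N] (κ : N ⟶ M) [IsMonHom κ] [IsClosedImmersion κ.left],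
      κ ≫ j ≫ f = 1 → IsFinite N.hom) :
    ∃ (H : Over (Spec (CommRingCat.of k))) (_ : GrpObj H) (h : H ⟶ G), IsMonHom h ∧ IsClosedImmersion h.left ∧
      Surjective ((j ⊗ₘ h) ≫ μ[G]).left ∧ IsFinite (pullback.fst j.left h.left ≫ M.hom) := by
  obtain ⟨H, _, h, hh, hhc, hk, -⟩ := AntiAffLib.exists_kernel f
  haveI := hh; haveI := hhc
  refine ⟨H, inferInstance, h, hh, hhc, ?_, ?_⟩
  · let P := pullback f (c ≫ j ≫ f)
    have sqP := (IsPullback.of_hasPullback f (c ≫ j ≫ f)).map (Over.forget _)
    haveI : Surjective (pullback.fst f (c ≫ j ≫ f)).left :=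
      MorphismProperty.of_isPullback (P := @Surjective) sqP.flip ‹Surjective (c ≫ j ≫ f).left›
    let x : P ⟶ G := pullback.fst f (c ≫ j ≫ f)
    let t : P ⟶ G := pullback.snd f (c ≫ j ≫ f) ≫ c ≫ j
    obtain ⟨b, hb⟩ := AntiAffLib.exists_lift_kernel hk (t⁻¹ * x) (by
      rw [MonObj.mul_comp, GrpObj.inv_comp, inv_mul_eq_one]
      show (pullback.snd f (c ≫ j ≫ f) ≫ c ≫ j) ≫ f = pullback.fst f (c ≫ j ≫ f) ≫ f
      rw [pullback.condition, Category.assoc, Category.assoc])
    let a : P ⟶ M ⊗ H := lift (pullback.snd f (c ≫ j ≫ f) ≫ c) b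
    have ha : a ≫ (j ⊗ₘ h) ≫ μ[G] = x := by
      rw [← Category.assoc, lift_map, ← Hom.mul_def, hb, Category.assoc]
      exact mul_inv_cancel_left t x
    haveI : Surjective (a.left ≫ ((j ⊗ₘ h) ≫ μ[G]).left) := by
      rw [← Over.comp_left, ha]; infer_instance
    exact Surjective.of_comp a.left _
  obtain ⟨N, _, κ, hκ, hκc, hκk, -⟩ := AntiAffLib.exists_kernel (j ≫ f)
  haveI := hκ; haveI := hκc
  haveI := hfin N κ (by rw [hκk.w, ← Hom.one_def])
  have sqI := IsPullback.of_hasPullback j h
  obtain ⟨a, ha⟩ := AntiAffLib.exists_lift_kernel hκk (pullback.fst j h) (by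
    rw [← Category.assoc, pullback.condition, Category.assoc, hk.w, ← Hom.one_def, MonObj.comp_one])
  haveI : IsClosedImmersion (pullback.fst j h).left :=
    MorphismProperty.of_isPullback (P := @IsClosedImmersion) (sqI.map (Over.forget _)).flip hhc
  haveI : IsClosedImmersion (a.left ≫ κ.left) := by rw [← Over.comp_left, ha]; infer_instance
  haveI : IsClosedImmersion a.left := IsClosedImmersion.of_comp a.left κ.left
  haveI : IsFinite (pullback j h).hom := by rw [← Over.w a]; infer_instance
  let e := (sqI.map (Over.forget _)).isoPullback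
  have he : pullback.fst j.left h.left ≫ M.hom = e.inv ≫ (pullback j h).hom := by
    rw [← Over.w (pullback.fst j h), ← Category.assoc]
    congr 1
    exact ((sqI.map (Over.forget _)).isoPullback_inv_fst).symm
  rw [he]
  infer_instance

end MultExactLib

end
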