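import Groth.Agent.MultExtLib.Field
import Groth.Agent.MultExtLib.Main
import Groth.Agent.S4130
import Groth.Agent.S2966
import Groth.Agent.HopfFFLib.Injective
import Groth.Agent.VecGrpLib.SplitScheme
import Groth.Agent.DiagHopfLib.FieldQuot
import Groth.Agent.SCSectLib.Main
import Groth.Agent.MonoQuotLib.Orbit
import Groth.Agent.S19141
import Groth.Agent.S3278
import Groth.Agent.S0113
import Groth.Agent.MultProdLib.Section
import Mathlib.RingTheory.Finiteness.Descent

/-!
# Largest subgroups of multiplicative type and quotients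
-/

set_option autoImplicit false
set_option linter.all false
set_option backward.isDefEq.respectTransparency false
set_option backward.isDefEq.respectTransparency.types false
set_option maxHeartbeats 1000000
set_option synthInstance.maxHeartbeats 400000

universe u

open CategoryTheory CategoryTheory.Limits MonoidalCategory CartesianMonoidalCategory AlgebraicGeometry CoactBr WithConv
open scoped MonObj TensorProduct
open HopfRep
open Groth.Agent

noncomputable section

namespace MultExactLib

attribute [-instance] CategoryTheory.Hom.commGroup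
attribute [local instance] CoactBr.braidedAlgSpecOf

variable {k : Type u} [Field k]

/-- No nontrivial homomorphisms from a unipotent group to a group of multiplicative type. -/
theorem eq_one_unip_mult {U : Type u} [CommRing U] [HopfAlgebra k U] [Algebra.FiniteType k U]
    (hU : HopfRep.IsUnipotent k U) {K : Over (Spec (CommRingCat.of k))} [GrpObj K] (hK : SGA3x.IsMultTypeFT K)
    (f : sp k U ⟶ K) [IsMonHom f] : f = 1 := by
  haveI := MultEq.isAffineHom_of_isMultTypeFT hK
  haveI := MultEq.lfp_of_isMultTypeFT hK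
  haveI : IsAffine K.left := isAffine_of_isAffineHom K.hom
  obtain ⟨C, _, _, v, hv, hv'⟩ := HomCorr.exists_hopf K
  haveI := hv; haveI := hv'
  haveI : Algebra.FiniteType k C := by
    haveI : IsIso v.hom.left := (Over.forget _).map_isIso v.hom
    haveI : LocallyOfFiniteType (sp k C).hom := by rw [← Over.w v.hom]; infer_instance
    exact RingHom.finiteType_algebraMap.1 ((HasRingHomProperty.Spec_iff (P := @LocallyOfFiniteType)
      (φ := CommRingCat.ofHom (algebraMap k C))).1 (inferInstance : LocallyOfFiniteType (sp k C).hom))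
  have hC := HomCorr.isMultType_of_locally v.hom (Transporter.locally_of_isMultTypeFT hK)
  obtain ⟨L, _, _, N, _, ⟨E₀⟩⟩ := DiagHopf.exists_field_split hC
  obtain ⟨E⟩ := DiagHopf.exists_split_algClosure' E₀ (AlgebraicClosure k)
  obtain ⟨φ, hφ⟩ := DiagRep.exists_pt (f ≫ v.inv)
  haveI : IsMonHom (pt φ) := by rw [← hφ]; infer_instance
  obtain ⟨b, hb⟩ := HopfPoints.exists_bialgHom φ
  have ht := (S2966.result (DiagHopf.isDiagonalizable_of_split E) hU).2 b
  rw [← cancel_mono v.inv, MonObj.one_comp, hφ, ← DiagRep.pt_one]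
  congr 1
  subst hb
  exact AlgHom.ext fun c => ht c

/-- The largest subgroup of multiplicative type with unipotent quotient. -/
theorem exists_quot (E : Over (Spec (CommRingCat.of k))) [GrpObj E] [IsCommMonObj E] [IsAffine E.left]
    [LocallyOfFiniteType E.hom] :
    ∃ (ME : Over (Spec (CommRingCat.of k))) (_ : GrpObj ME) (m : ME ⟶ E) (U : Type u) (_ : CommRing U)
      (_ : HopfAlgebra k U) (_ : Algebra.FiniteType k U) (p : E ⟶ sp k U),
      IsMonHom m ∧ IsClosedImmersion m.left ∧ SGA3x.IsMultTypeFT ME ∧ IsMonHom p ∧ HopfRep.IsUnipotent k U ∧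
      Flat p.left ∧ Surjective p.left ∧ LocallyOfFinitePresentation p.left ∧
      (∀ (T : Over (Spec (CommRingCat.of k))) (a : T ⟶ E), a ≫ p = 1 → ∃ t : T ⟶ ME, t ≫ m = a) ∧
      (PerfectField k → ∃ r : E ⟶ ME, IsMonHom r ∧ m ≫ r = 𝟙 ME) := by
  obtain ⟨A, _, _, e, he, he', hft, hcc⟩ := MultExt.exists_hopf E
  haveI := he; haveI := he'; haveI := hft; haveI := hcc
  obtain ⟨J, hJ, hJm, -, B, _, _, φ, hφ, hJe, hU⟩ := S4130.result k A
  haveI := hJ
  have hff : (φ : B →+* A).FaithfullyFlat := HopfFF.faithfullyFlat_of_injective φ hφ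
  haveI : Algebra.FiniteType k B := by
    letI : Algebra B A := (φ : B →+* A).toAlgebra
    haveI : IsScalarTower k B A := IsScalarTower.of_algebraMap_eq fun r => ((φ : B →ₐ[k] A).commutes r).symm
    haveI : Module.FaithfullyFlat B A := RingHom.faithfullyFlat_algebraMap_iff.1 hff
    haveI : IsNoetherianRing A := Algebra.FiniteType.isNoetherianRing k A
    haveI : IsNoetherianRing B := (isNoetherianRing_iff_ideal_fg B).2 fun I =>
      Ideal.FG.of_FG_map_of_faithfullyFlat (S := A) (IsNoetherian.noetherian _)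
    haveI : Algebra.FiniteType B A := Algebra.FiniteType.of_restrictScalars_finiteType k B A
    haveI : Algebra.FinitePresentation B A := Algebra.FinitePresentation.of_finiteType.1 inferInstance
    exact S0113.result (R := k) (A := B) (B := A)
  let qJ := Bialgebra.Quotient.mkBialgHom (R := k) J
  let m₀ : sp k (A ⧸ J) ⟶ sp k A := pt (qJ : A →ₐ[k] A ⧸ J)
  haveI : IsMonHom m₀ := SekSuwa.isMonHom_specHom qJ
  haveI : IsClosedImmersion m₀.left := VecGrp.isClosedImmersion_pt _ Ideal.Quotient.mk_surjective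
  let p₀ : sp k A ⟶ sp k B := pt (φ : B →ₐ[k] A)
  haveI : IsMonHom p₀ := SekSuwa.isMonHom_specHom φ
  haveI : IsIso e.hom.left := (Over.forget _).map_isIso e.hom
  haveI : IsIso e.inv.left := (Over.forget _).map_isIso e.inv
  obtain ⟨h1, h2⟩ : Flat p₀.left ∧ Surjective p₀.left :=
    (flat_and_surjective_SpecMap_iff (CommRingCat.ofHom (φ : B →ₐ[k] A).toRingHom)).2 hff
  haveI := h1; haveI := h2
  haveI : IsNoetherianRing B := Algebra.FiniteType.isNoetherianRing k B
  haveI : LocallyOfFiniteType (sp k B).hom :=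
    (HasRingHomProperty.Spec_iff (P := @LocallyOfFiniteType) (φ := CommRingCat.ofHom (algebraMap k B))).2
      (RingHom.finiteType_algebraMap.2 inferInstance)
  haveI : LocallyOfFiniteType ((e.inv ≫ p₀).left ≫ (sp k B).hom) := by rw [Over.w]; infer_instance
  haveI : LocallyOfFiniteType (e.inv ≫ p₀).left := locallyOfFiniteType_of_comp _ (sp k B).hom
  haveI : IsLocallyNoetherian (sp k B).left := LocallyOfFiniteType.isLocallyNoetherian (sp k B).hom
  haveI : IsClosedImmersion (m₀ ≫ e.hom).left := by rw [Over.comp_left]; infer_instance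
  have hmt : SGA3x.IsMultTypeFT (sp k (A ⧸ J)) := by
    obtain ⟨T, _, _, hT, N, _, ⟨ε⟩⟩ := hJm
    haveI := hT
    obtain ⟨E'⟩ := DiagHopf.exists_split_of_bialgEquiv ε
    exact HomCorr.isMultTypeFT_of_isMultType (𝟙 (sp k (A ⧸ J))) (DiagHopf.isMultType_of_split E')
  refine ⟨sp k (A ⧸ J), inferInstance, m₀ ≫ e.hom, B, inferInstance, inferInstance, inferInstance, e.inv ≫ p₀,
    inferInstance, inferInstance, hmt, inferInstance, hU, ?_, ?_, inferInstance, fun T a ha => ?_, fun _ => ?_⟩
  · rw [Over.comp_left]; infer_instance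
  · rw [Over.comp_left]; infer_instance
  rotate_left
  -- the retraction
  · obtain ⟨T, _, _, hT, N, _, ⟨ε⟩⟩ := hJm
    haveI := hT
    obtain ⟨E'⟩ := DiagHopf.exists_split_of_bialgEquiv ε
    haveI : Algebra.FiniteType k (A ⧸ J) :=
      Algebra.FiniteType.of_surjective (Ideal.Quotient.mkₐ k J) Ideal.Quotient.mk_surjective
    obtain ⟨L, _, _, N₁, _, ⟨E₀⟩⟩ := DiagHopf.exists_field_split (DiagHopf.isMultType_of_split E')
    obtain ⟨E₁⟩ := DiagHopf.exists_split_algClosure' E₀ (AlgebraicClosure k)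
    have hle : RingHom.ker (qJ : A →+* A ⧸ J) ≤ Ideal.map (φ : B →+* A) (RingHom.ker (Bialgebra.counitAlgHom k B)) := by
      intro a ha
      rw [← hJe]
      exact Ideal.Quotient.eq_zero_iff_mem.1 ha
    obtain ⟨ρ, hρ, -⟩ := MultProdLib.existsUnique_section qJ Ideal.Quotient.mk_surjective φ hφ hle
      (UnipHopf.exhaustive_of_isUnipotent hU) E₁
    haveI : IsMonHom (pt (ρ : A ⧸ J →ₐ[k] A)) := SekSuwa.isMonHom_specHom ρ
    refine ⟨e.inv ≫ pt (ρ : A ⧸ J →ₐ[k] A), inferInstance, ?_⟩
    rw [Category.assoc, Iso.hom_inv_id_assoc]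
    show pt _ ≫ pt _ = 𝟙 _
    rw [← pt_comp, ← pt_id]
    congr 1
    exact AlgHom.ext hρ
  -- the kernel
  haveI : Mono (η[sp k B] : 𝟙_ (Over (Spec (CommRingCat.of k))) ⟶ sp k B) := ⟨fun {Z} a b _ => toUnit_unique a b⟩
  let K := pullback p₀ η[sp k B]
  let κ : K ⟶ sp k A := pullback.fst _ _
  haveI : Mono κ := pullback.fst_of_mono
  haveI : IsAffine (sp k B).left := inferInstanceAs (IsAffine (Spec _))
  haveI : IsAffine (sp k A).left := inferInstanceAs (IsAffine (Spec _))
  haveI : IsClosedImmersion κ.left := SCSectLib.closed_kernel (IsPullback.of_hasPullback p₀ η[sp k B])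
  haveI : IsAffine K.left := isAffine_of_isAffineHom κ.left
  have hκ : κ ≫ p₀ = 1 := by
    rw [pullback.condition, Hom.one_def, toUnit_unique (pullback.snd p₀ η[sp k B]) (toUnit K)]
  have hfac : ∀ {Z : Over (Spec (CommRingCat.of k))} (a : Z ⟶ sp k A), a ≫ p₀ = 1 → ∃ l : Z ⟶ K, l ≫ κ = a :=
    fun {Z} a ha => ⟨pullback.lift a (toUnit Z) (ha.trans (Hom.one_def)), pullback.lift_fst _ _ _⟩
  obtain ⟨_, hκm⟩ := SubDesc.exists_grpObj_of_mono κ
    (hfac _ (by rw [MonObj.mul_comp, Category.assoc, Category.assoc, hκ, MonObj.comp_one, MonObj.comp_one, mul_one]))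
    (hfac _ (by rw [MonObj.one_comp]))
    (hfac _ (by rw [GrpObj.inv_comp, hκ, inv_one]))
  obtain ⟨C, _, _, v, hv, hv'⟩ := HomCorr.exists_hopf K
  obtain ⟨χ, hχ⟩ := DiagRep.exists_pt (v.hom ≫ κ)
  have hqχ : pt (χ.comp (φ : B →ₐ[k] A)) = pt ((Algebra.ofId k C).comp (Bialgebra.counitAlgHom k B)) := by
    rw [pt_comp, ← hχ, DiagRep.pt_one, Category.assoc]
    show v.hom ≫ κ ≫ p₀ = 1
    rw [hκ, MonObj.comp_one]
  have hJk : J ≤ RingHom.ker χ := by
    rw [hJe, Ideal.map_le_iff_le_comap]
    intro b hb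
    show χ (φ b) = 0
    refine (DFunLike.congr_fun (pt_injective hqχ) b).trans ?_
    show algebraMap k C (Bialgebra.counitAlgHom k B b) = 0
    rw [show Bialgebra.counitAlgHom k B b = 0 from hb, map_zero]
  obtain ⟨l, hl⟩ := hfac (a ≫ e.inv) (by rw [Category.assoc]; exact ha)
  refine ⟨l ≫ v.inv ≫ pt (Ideal.Quotient.liftₐ J χ hJk), ?_⟩
  have e1 : pt (Ideal.Quotient.liftₐ J χ hJk) ≫ m₀ = v.hom ≫ κ := by
    rw [hχ, ← pt_comp]
    congr 1
  rw [Category.assoc, Category.assoc, ← Category.assoc _ m₀, e1]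
  simp [reassoc_of% hl]

/-- No nontrivial homomorphisms from a group of multiplicative type to a unipotent group. -/
theorem eq_one_mult_unip {U : Type u} [CommRing U] [HopfAlgebra k U] [Algebra.FiniteType k U]
    (hU : HopfRep.IsUnipotent k U) {K : Over (Spec (CommRingCat.of k))} [GrpObj K] (hK : SGA3x.IsMultTypeFT K)
    (f : K ⟶ sp k U) [IsMonHom f] : f = 1 := by
  haveI := MultEq.isAffineHom_of_isMultTypeFT hK
  haveI := MultEq.lfp_of_isMultTypeFT hK
  haveI : IsAffine K.left := isAffine_of_isAffineHom K.hom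
  obtain ⟨C, _, _, v, hv, hv'⟩ := HomCorr.exists_hopf K
  haveI := hv; haveI := hv'
  haveI : Algebra.FiniteType k C := by
    haveI : IsIso v.hom.left := (Over.forget _).map_isIso v.hom
    haveI : LocallyOfFiniteType (sp k C).hom := by rw [← Over.w v.hom]; infer_instance
    exact RingHom.finiteType_algebraMap.1 ((HasRingHomProperty.Spec_iff (P := @LocallyOfFiniteType)
      (φ := CommRingCat.ofHom (algebraMap k C))).1 (inferInstance : LocallyOfFiniteType (sp k C).hom))
  have hC := HomCorr.isMultType_of_locally v.hom (Transporter.locally_of_isMultTypeFT hK)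
  obtain ⟨L, _, _, N, _, ⟨E₀⟩⟩ := DiagHopf.exists_field_split hC
  obtain ⟨E⟩ := DiagHopf.exists_split_algClosure' E₀ (AlgebraicClosure k)
  obtain ⟨φ, hφ⟩ := DiagRep.exists_pt (v.hom ≫ f)
  haveI : IsMonHom (pt φ) := by rw [← hφ]; infer_instance
  obtain ⟨b, hb⟩ := HopfPoints.exists_bialgHom φ
  have ht := (S2966.result (DiagHopf.isDiagonalizable_of_split E) hU).1 b
  rw [← cancel_epi v.hom, MonObj.comp_one, hφ, ← DiagRep.pt_one]
  congr 1
  subst hb
  exact AlgHom.ext fun c => ht c

/-- A faithfully flat image of a group of multiplicative type is of multiplicative type. -/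
theorem mult_of_quotient {M C : Over (Spec (CommRingCat.of k))} [GrpObj M] [GrpObj C] [IsAffine C.left]
    [LocallyOfFiniteType C.hom] (hM : SGA3x.IsMultTypeFT M) (r : M ⟶ C) [IsMonHom r] [Flat r.left] [Surjective r.left] :
    SGA3x.IsMultTypeFT C := by
  haveI := MultEq.lfp_of_isMultTypeFT hM
  haveI : IsAffineHom C.hom := inferInstance
  haveI : LocallyOfFinitePresentation C.hom := inferInstance
  obtain ⟨Q, _, j, hj, f', hf', hjc, hQ, hfl, hfs, hfac⟩ :=
    (S19141.result M C (Transporter.locally_of_isMultTypeFT hM) r).1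
  haveI := hj; haveI := hjc
  haveI : LocallyOfFiniteType (r.left ≫ C.hom) := by rw [Over.w r]; infer_instance
  haveI : LocallyOfFiniteType r.left := locallyOfFiniteType_of_comp r.left C.hom
  haveI : IsLocallyNoetherian C.left := LocallyOfFiniteType.isLocallyNoetherian C.hom
  haveI : LocallyOfFinitePresentation r.left := inferInstance
  haveI := MonoQuot.epi_over r
  haveI : Mono j := Over.mono_of_mono_left j
  obtain ⟨y, hy⟩ := MonoQuot.exists_desc_over r f' fun T a b h => by
    rw [← cancel_mono j, Category.assoc, Category.assoc, hfac, h]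
  have hyj : y ≫ j = 𝟙 C := by rw [← cancel_epi r, ← Category.assoc, hy, hfac, Category.comp_id]
  haveI : IsIso j := ⟨y, by rw [← cancel_mono j, Category.assoc, hyj, Category.comp_id, Category.id_comp], hyj⟩
  haveI : IsAffine Q.left := isAffine_of_isAffineHom j.left
  obtain ⟨D, _, _, v, hv, hv'⟩ := HomCorr.exists_hopf Q
  haveI := hv; haveI := hv'
  haveI : LocallyOfFiniteType Q.hom := by rw [← Over.w j]; infer_instance
  haveI : Algebra.FiniteType k D := by
    haveI : IsIso v.hom.left := (Over.forget _).map_isIso v.hom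
    haveI : LocallyOfFiniteType (sp k D).hom := by rw [← Over.w v.hom]; infer_instance
    exact RingHom.finiteType_algebraMap.1 ((HasRingHomProperty.Spec_iff (P := @LocallyOfFiniteType)
      (φ := CommRingCat.ofHom (algebraMap k D))).1 (inferInstance : LocallyOfFiniteType (sp k D).hom))
  exact HomCorr.isMultTypeFT_of_isMultType (v.hom ≫ j) (HomCorr.isMultType_of_locally v.hom hQ)

/-- Surjectivity: a subgroup through which the largest subgroup of multiplicative type factors is everything. -/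
theorem isIso_of_factors {E M₂ Q : Over (Spec (CommRingCat.of k))} [GrpObj E] [IsCommMonObj E] [GrpObj M₂]
    [IsCommMonObj M₂] [GrpObj Q] [IsAffine E.left] [LocallyOfFiniteType E.hom] [IsAffine M₂.left]
    [LocallyOfFiniteType M₂.hom] (hM₂ : SGA3x.IsMultTypeFT M₂) (e : E ⟶ M₂) [IsMonHom e] [Flat e.left] [Surjective e.left]
    (c : Q ⟶ M₂) [IsMonHom c] [IsClosedImmersion c.left]
    (hfac : ∀ (N : Over (Spec (CommRingCat.of k))) [GrpObj N] (m : N ⟶ E) [IsMonHom m] [IsClosedImmersion m.left],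
      SGA3x.IsMultTypeFT N → ∃ g : N ⟶ Q, g ≫ c = m ≫ e) : IsIso c := by
  obtain ⟨ME, _, m, U, _, _, _, p, hm, hmc, hmt, hp, hU, hpf, hps, hplfp, hker, -⟩ := exists_quot E
  haveI := hm; haveI := hmc; haveI := hp; haveI := hpf; haveI := hps; haveI := hplfp
  have hN : AlgGrp.IsNormalHom c := fun T g n => ⟨n, by
    have h : g * (n ≫ c) = (n ≫ c) * g := by
      letI : CommGroup (T ⟶ M₂) := Hom.commGroup
      exact mul_comm _ _
    rw [h, mul_inv_cancel_right]⟩
  obtain ⟨C, _, r, hr, hCa, hCft, hrf, hrs, hk⟩ := S3278.result k M₂ Q c hN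
  haveI := hr; haveI := hCa; haveI := hCft; haveI := hrf; haveI := hrs
  have hCm := mult_of_quotient hM₂ r
  obtain ⟨g, hg⟩ := hfac ME m hmt
  have hmr : m ≫ e ≫ r = 1 := by
    rw [← Category.assoc, ← hg, Category.assoc, hk.w, ← Hom.one_def, MonObj.comp_one]
  obtain ⟨w, hw⟩ := MonoQuot.exists_desc_over p (e ≫ r) fun T a b h => by
    obtain ⟨t, ht⟩ := hker T (a⁻¹ * b) (by rw [MonObj.mul_comp, GrpObj.inv_comp, h, inv_mul_cancel])
    have e1 := congr($ht ≫ (e ≫ r))
    rw [Category.assoc, hmr, MonObj.comp_one, MonObj.mul_comp, GrpObj.inv_comp] at e1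
    exact inv_mul_eq_one.1 e1.symm
  haveI := MonoQuot.epi_over p
  haveI : IsMonHom w := by
    refine ⟨?_, ?_⟩
    · rw [← IsMonHom.one_hom (f := p), Category.assoc, hw, IsMonHom.one_hom]
    · obtain ⟨h1, h2, h3⟩ := MonoQuot.fppf_tensor p p
      haveI := h1; haveI := h2; haveI := h3
      haveI := MonoQuot.epi_over (p ⊗ₘ p)
      rw [← cancel_epi (p ⊗ₘ p), ← Category.assoc, ← IsMonHom.mul_hom, Category.assoc, hw, IsMonHom.mul_hom,
        MonoidalCategory.tensorHom_comp_tensorHom_assoc, hw]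
  have hw1 := eq_one_unip_mult hU hCm w
  rw [hw1, MonObj.comp_one] at hw
  haveI : LocallyOfFiniteType (e.left ≫ M₂.hom) := by rw [Over.w e]; infer_instance
  haveI : LocallyOfFiniteType e.left := locallyOfFiniteType_of_comp e.left M₂.hom
  haveI : IsLocallyNoetherian M₂.left := LocallyOfFiniteType.isLocallyNoetherian M₂.hom
  haveI : LocallyOfFinitePresentation e.left := inferInstance
  haveI := MonoQuot.epi_over e
  have hr1 : r = 1 := by rw [← cancel_epi e, ← hw, MonObj.comp_one]
  have hs : hk.lift (𝟙 M₂) (toUnit M₂) (by rw [Category.id_comp, hr1, Hom.one_def]) ≫ c = 𝟙 M₂ := hk.lift_fst _ _ _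
  haveI : Mono c := Over.mono_of_mono_left c
  exact ⟨_, by rw [← cancel_mono c, Category.assoc, hs, Category.comp_id, Category.id_comp], hs⟩

end MultExactLib

end
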